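import Cfsg.Agent.H459.TC.Small
import Cfsg.Agent.H210.TC.Row
import Cfsg.Agent.H416.ThreePrimes
import Cfsg.Prelude.Def_Classical

/-!
# Alternating groups: two fixed classes of prime order `≥ 5` (S4173, S2464, S2452; helper459)

`row3_alt (hn : 5 ≤ n) : Row3 (alternatingGroup (Fin n))`.
-/

set_option autoImplicit false
set_option maxRecDepth 100000

open Equiv Equiv.Perm

namespace Cfsg.Agent.H459.TC

open Cfsg.Agent.H134.Bert Cfsg.Agent.H210.TC

/-! ### the general case: `p`-cycles with two fixed points -/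

theorem isConj_cyc {n l : ℕ} (hl : l + 2 ≤ n) (hl2 : 2 ≤ l) {x y : alternatingGroup (Fin n)} {X Y : Finset (Fin n)}
    (hx : Cyc (x : Perm (Fin n)) X) (hy : Cyc (y : Perm (Fin n)) Y) (hX : X.card = l) (hY : Y.card = l) :
    IsConj x y := by
  have h1 := hx.cycleType (by omega)
  have h2 := hy.cycleType (by omega)
  refine alternatingGroup.isConj_of (isConj_iff_cycleType_eq.2 (by rw [h1, h2, hX, hY])) ?_
  rw [← sum_cycleType, h1, Multiset.sum_singleton, hX, Fintype.card_fin]
  exact hl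

/-- a cycle on the first `l` points -/
theorem exists_cyc {n l : ℕ} (hl : l ≤ n) (hl1 : 1 ≤ l) : ∃ (u : Perm (Fin n)) (X : Finset (Fin n)), Cyc u X ∧ X.card = l := by
  refine ⟨((List.finRange n).take l).formPerm, ((List.finRange n).take l).toFinset,
    ⟨(List.finRange n).take l, (List.nodup_finRange n).sublist (List.take_sublist _ _), ?_, rfl, rfl⟩, ?_⟩
  · intro h
    have := congrArg List.length h
    rw [List.length_take, List.length_finRange, List.length_nil] at this
    omega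
  · rw [List.toFinset_card_of_nodup ((List.nodup_finRange n).sublist (List.take_sublist _ _)), List.length_take,
      List.length_finRange]
    omega

/-- the square of the class of the `l`-cycles -/
theorem two_cyc {n l : ℕ} (hl : l + 2 ≤ n) (hl2 : 2 ≤ l) (ho : Odd l) (h : (n + n / 2) / 2 ≤ l)
    {x : alternatingGroup (Fin n)} {X : Finset (Fin n)} (hx : Cyc (x : Perm (Fin n)) X) (hX : X.card = l)
    (g : alternatingGroup (Fin n)) : ∃ u v : alternatingGroup (Fin n), g = (u * x * u⁻¹) * (v * x * v⁻¹) := by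
  obtain ⟨a, b, A, B, ha, hb, e, hA, hB⟩ := bertram' (g : Perm (Fin n)) (mem_alternatingGroup.1 g.2) (l := l)
    (by omega) (by rwa [Fintype.card_fin]) (by rw [Fintype.card_fin]; omega)
  obtain ⟨u, hu⟩ := isConj_iff.1 (isConj_cyc (x := x) (y := ⟨a, mem_alternatingGroup.2 (ha.sign (hA ▸ ho))⟩) hl hl2 hx ha hX hA)
  obtain ⟨v, hv⟩ := isConj_iff.1 (isConj_cyc (x := x) (y := ⟨b, mem_alternatingGroup.2 (hb.sign (hB ▸ ho))⟩) hl hl2 hx hb hX hB)
  exact ⟨u, v, by rw [hu, hv]; exact Subtype.ext e⟩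

theorem coprime_six {p : ℕ} (hp : p.Prime) (h5 : 5 ≤ p) : Nat.Coprime p 6 := by
  have h2 : Nat.Coprime p 2 := (Nat.coprime_primes hp Nat.prime_two).2 (by omega)
  have h3 : Nat.Coprime p 3 := (Nat.coprime_primes hp Nat.prime_three).2 (by omega)
  exact h2.mul_right h3

/-- **the general row** -/
theorem row3_of_prime {n p : ℕ} (hp : p.Prime) (h5 : 5 ≤ p) (hl : p + 2 ≤ n) (h : (n + n / 2) / 2 ≤ p) :
    Row3 (alternatingGroup (Fin n)) := by
  have ho : Odd p := hp.odd_of_ne_two (by omega)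
  obtain ⟨a, X, ha, hX⟩ := exists_cyc (n := n) (l := p) (by omega) (by omega)
  set x : alternatingGroup (Fin n) := ⟨a, mem_alternatingGroup.2 (ha.sign (hX ▸ ho))⟩ with hxdef
  have hord : orderOf x = p := by rw [← Subgroup.orderOf_coe, hxdef, ha.orderOf, hX]
  have key := fun g => two_cyc (x := x) hl (by omega) ho h ha hX g
  refine ⟨x, x, hord ▸ hp, hord ▸ coprime_six hp h5, hord ▸ hp, hord ▸ coprime_six hp h5, fun g _ => key g, fun g => ?_⟩
  obtain ⟨u, v, e⟩ := key (g * x⁻¹)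
  exact ⟨u, v, 1, by rw [← e]; group⟩

/-! ### the small degrees -/

theorem row3_of_split {n p : ℕ} (hp : p.Prime) (h5 : 5 ≤ p) {a ρ : Perm (Fin n)} {X : Finset (Fin n)} (ha : Cyc a X)
    (hX : X.card = p) (hρ : sign ρ = -1)
    (hc : ∀ g : Perm (Fin n), sign g = 1 → g ≠ 1 →
      ∃ τ σ : Perm (Fin n), sign σ = -1 ∧ g = (τ * a * τ⁻¹) * ((τ * σ) * a * (τ * σ)⁻¹))
    {u v : Perm (Fin n)} (hu : sign u = 1) (hv : sign v = 1) (h3 : u * a * u⁻¹ * (v * a * v⁻¹) = ρ * a * ρ⁻¹)
    {v' w' : Perm (Fin n)} (hv' : sign v' = 1) (hw' : sign w' = 1)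
    (h4 : a * (v' * a * v'⁻¹) * (w' * a * w'⁻¹) = 1) : Row3 (alternatingGroup (Fin n)) := by
  have ho : Odd p := hp.odd_of_ne_two (by omega)
  have hsa : sign a = 1 := ha.sign (hX ▸ ho)
  have hsy : sign (ρ * a * ρ⁻¹) = 1 := by
    rw [map_mul, map_mul, map_inv, hsa, mul_one, mul_inv_cancel]
  set x : alternatingGroup (Fin n) := ⟨a, mem_alternatingGroup.2 hsa⟩ with hxdef
  set y : alternatingGroup (Fin n) := ⟨ρ * a * ρ⁻¹, mem_alternatingGroup.2 hsy⟩ with hydef
  have hordx : orderOf x = p := by rw [← Subgroup.orderOf_coe, hxdef, ha.orderOf, hX]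
  have hordy : orderOf y = p := by
    rw [← Subgroup.orderOf_coe, hydef]
    change orderOf (MulAut.conj ρ a) = p
    rw [MulEquiv.orderOf_eq, ha.orderOf, hX]
  have key := tc_of_split hsa hρ hc x y rfl rfl
  refine ⟨x, y, hordx ▸ hp, hordx ▸ coprime_six hp h5, hordy ▸ hp, hordy ▸ coprime_six hp h5, key, fun g => ?_⟩
  by_cases hg : g = 1
  · refine ⟨1, ⟨v', mem_alternatingGroup.2 hv'⟩, ⟨w', mem_alternatingGroup.2 hw'⟩, ?_⟩
    apply Subtype.ext
    rw [hg]
    simp only [Subgroup.coe_mul, Subgroup.coe_inv, Subgroup.coe_one, hxdef]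
    rw [one_mul, inv_one, mul_one]
    exact h4.symm
  · obtain ⟨s, t, e⟩ := key g hg
    refine ⟨s, t * ⟨u, mem_alternatingGroup.2 hu⟩, t * ⟨v, mem_alternatingGroup.2 hv⟩, ?_⟩
    apply Subtype.ext
    rw [e]
    simp only [Subgroup.coe_mul, Subgroup.coe_inv, hxdef, hydef]
    rw [← h3]
    group

theorem cyc_pl {n : ℕ} {l : List (Fin n)} (h : l.Nodup) (h0 : l ≠ []) : Cyc (pl [l]) l.toFinset :=
  ⟨l, h, h0, rfl, by rw [pl_cons]; exact (mul_one _).symm⟩

theorem sign_swap' {n : ℕ} {i j : Fin n} (h : i ≠ j) : sign (pl [[i, j]]) = -1 := by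
  have : pl [[i, j]] = Equiv.swap i j := by
    rw [pl_cons, List.formPerm_pair]
    exact mul_one _
  rw [this, sign_swap h]

theorem row3_five : Row3 (alternatingGroup (Fin 5)) := by
  have h3 := h3_5
  have h4 := h4_5
  simp only [Bool.and_eq_true, List.all_eq_true, decide_eq_true_eq] at h3 h4
  exact row3_of_split (p := 5) (by norm_num) (by norm_num) (cyc_pl (by decide) (by decide)) (by decide)
    (sign_swap' (by decide)) (split_cover h1_5 h2_5) (sign_evn h3.1.1) (sign_evn h3.1.2)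
    (Equiv.ext fun x => h3.2 x (List.mem_finRange x)) (sign_evn h4.1.1) (sign_evn h4.1.2)
    (Equiv.ext fun x => h4.2 x (List.mem_finRange x))

theorem row3_six : Row3 (alternatingGroup (Fin 6)) := by
  have h3 := h3_6
  have h4 := h4_6
  simp only [Bool.and_eq_true, List.all_eq_true, decide_eq_true_eq] at h3 h4
  exact row3_of_split (p := 5) (by norm_num) (by norm_num) (cyc_pl (by decide) (by decide)) (by decide)
    (sign_swap' (by decide)) (split_cover h1_6 h2_6) (sign_evn h3.1.1) (sign_evn h3.1.2)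
    (Equiv.ext fun x => h3.2 x (List.mem_finRange x)) (sign_evn h4.1.1) (sign_evn h4.1.2)
    (Equiv.ext fun x => h4.2 x (List.mem_finRange x))

theorem row3_eight : Row3 (alternatingGroup (Fin 8)) := by
  have h3 := h3_8
  have h4 := h4_8
  simp only [Bool.and_eq_true, List.all_eq_true, decide_eq_true_eq] at h3 h4
  exact row3_of_split (p := 7) (by norm_num) (by norm_num) (cyc_pl (by decide) (by decide)) (by decide)
    (sign_swap' (by decide)) (split_cover h1_8 h2_8) (sign_evn h3.1.1) (sign_evn h3.1.2)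
    (Equiv.ext fun x => h3.2 x (List.mem_finRange x)) (sign_evn h4.1.1) (sign_evn h4.1.2)
    (Equiv.ext fun x => h4.2 x (List.mem_finRange x))

theorem row3_eleven : Row3 (alternatingGroup (Fin 11)) := by
  have h3 := h3_11
  have h4 := h4_11
  simp only [Bool.and_eq_true, List.all_eq_true, decide_eq_true_eq] at h3 h4
  exact row3_of_split (p := 11) (by norm_num) (by norm_num) (cyc_pl (by decide) (by decide)) (by decide)
    (sign_swap' (by decide)) (split_cover h1_11 h2_11) (sign_evn h3.1.1) (sign_evn h3.1.2)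
    (Equiv.ext fun x => h3.2 x (List.mem_finRange x)) (sign_evn h4.1.1) (sign_evn h4.1.2)
    (Equiv.ext fun x => h4.2 x (List.mem_finRange x))

theorem row3_twelve : Row3 (alternatingGroup (Fin 12)) := by
  have h3 := h3_12
  have h4 := h4_12
  simp only [Bool.and_eq_true, List.all_eq_true, decide_eq_true_eq] at h3 h4
  exact row3_of_split (p := 11) (by norm_num) (by norm_num) (cyc_pl (by decide) (by decide)) (by decide)
    (sign_swap' (by decide)) (split_cover h1_12 h2_12) (sign_evn h3.1.1) (sign_evn h3.1.2)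
    (Equiv.ext fun x => h3.2 x (List.mem_finRange x)) (sign_evn h4.1.1) (sign_evn h4.1.2)
    (Equiv.ext fun x => h4.2 x (List.mem_finRange x))

/-! ### all degrees -/

theorem exists_prime {n : ℕ} (hn : 5 ≤ n) (h5 : n ≠ 5) (h6 : n ≠ 6) (h8 : n ≠ 8) (h11 : n ≠ 11) (h12 : n ≠ 12) :
    ∃ p : ℕ, p.Prime ∧ 5 ≤ p ∧ p + 2 ≤ n ∧ (n + n / 2) / 2 ≤ p := by
  rcases Nat.lt_or_ge n 61 with h | h
  · have key : ∀ m < 61, (7 ≤ m ∧ m ≠ 8 ∧ m ≠ 11 ∧ m ≠ 12) →
        ([5, 7, 11, 13, 17, 19, 23, 29, 31, 37, 41, 43, 47, 53].any fun p =>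
          decide (5 ≤ p ∧ p + 2 ≤ m ∧ (m + m / 2) / 2 ≤ p)) = true := by
      decide
    obtain ⟨p, hp, h'⟩ := List.any_eq_true.1 (key n h ⟨by omega, h8, h11, h12⟩)
    refine ⟨p, ?_, of_decide_eq_true h'⟩
    simp only [List.mem_cons, List.not_mem_nil, or_false] at hp
    rcases hp with rfl | rfl | rfl | rfl | rfl | rfl | rfl | rfl | rfl | rfl | rfl | rfl | rfl | rfl <;> norm_num
  · obtain ⟨r, s, t, hr, hs, ht, h1, h2, h3, h4⟩ := Cfsg.Agent.H416.ThreePrimes.three_primes h
    exact ⟨r, hr, by omega, by omega, by omega⟩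

/-- **The alternating row of S4173, S2464 and S2452.** -/
theorem row3_alt {n : ℕ} (hn : 5 ≤ n) : Row3 (alternatingGroup (Fin n)) := by
  by_cases h5 : n = 5
  · subst h5; exact row3_five
  by_cases h6 : n = 6
  · subst h6; exact row3_six
  by_cases h8 : n = 8
  · subst h8; exact row3_eight
  by_cases h11 : n = 11
  · subst h11; exact row3_eleven
  by_cases h12 : n = 12
  · subst h12; exact row3_twelve
  obtain ⟨p, hp, hp5, h1, h2⟩ := exists_prime hn h5 h6 h8 h11 h12
  exact row3_of_prime hp hp5 h1 h2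

theorem row3_isAlternating {G : Type*} [Group G] (h : Cfsg.IsAlternating G) : Row3 G := by
  obtain ⟨n, hn, ⟨e⟩⟩ := h
  exact Row3.of_equiv e (row3_alt hn)

end Cfsg.Agent.H459.TC
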