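import Cfsg.Agent.H459.Ore.Frame
import Cfsg.Agent.H459.TC.Alt
import Cfsg.Agent.H140.TC.Psl
import Cfsg.Agent.H140.TC.Sp43
import Cfsg.Agent.H140.TC.Fam
import Cfsg.Agent.H950.TC.Psu
import Cfsg.Agent.H181.TC.Main

/-!
# Alternating and classical rows of S4173 (helper459)
-/

set_option autoImplicit false

namespace Cfsg.Agent.H459.TC

open Cfsg.Agent.H140.TC

universe u

theorem tc_isPSU {G : Type u} [Group G] (h : IsPSU G) : TC G := by
  obtain ⟨F, _, _, n, q, hF, hn, hex, ⟨e⟩⟩ := h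
  exact TC.of_equiv e (Cfsg.Agent.H950.TC.tc_psu hF hn hex)

theorem tc_isPOmegaOdd {G : Type u} [Group G] (h : IsPOmegaOdd G) : TC G := by
  obtain ⟨F, _, _, m, hm, ho, ⟨e⟩⟩ := h
  exact TC.of_equiv e (tc_odd ho hm)

theorem tc_isPOmegaPlus {G : Type u} [Group G] (h : IsPOmegaPlus G) : TC G := by
  obtain ⟨F, _, _, m, hm, ⟨e⟩⟩ := h
  exact TC.of_equiv e (tc_plus hm)

theorem tc_isPOmegaMinus {G : Type u} [Group G] (h : IsPOmegaMinus G) : TC G := by
  obtain ⟨F, _, _, m, a, b, hm, hab, ⟨e⟩⟩ := h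
  by_cases h : 5 ≤ m ∨ 3 ≤ Fintype.card F
  · exact TC.of_equiv e (tc_minus hm a b hab h)
  · have h2 : 2 ≤ Fintype.card F := Fintype.one_lt_card
    obtain rfl : m = 4 := by omega
    exact TC.of_equiv e (Cfsg.Agent.H181.O8m.pp_o8m (by omega) hab).tc

/-- the classical and alternating rows of S4173 -/
theorem tc_cls : Cfsg.Agent.H459.Ore.ClsRows.{u} (fun G _ => TC G) where
  alt := fun h => (row3_isAlternating h).tc
  psl := tc_isPSL
  psp := tc_isPSp
  psu := tc_isPSU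
  poo := tc_isPOmegaOdd
  pop := tc_isPOmegaPlus
  pom := tc_isPOmegaMinus

end Cfsg.Agent.H459.TC
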