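import Cfsg.Agent.H134.Bert

/-!
# Two fixed classes in small alternating groups (helper459): tools

* `pl L` : product of the disjoint cycles `L`; `cycleType_pl`.
* `types n n` : all cycle types of degree `n`; `exists_type`.
* `split_cover` : if a table of certificates exists, every even `g ≠ 1` is `a^τ * a^(τσ)` with `σ` odd.
* `tc_of_split` : the product of the two classes of `a` and `a^ρ`, `ρ` odd, in the alternating group.
-/

set_option autoImplicit false

open Equiv Equiv.Perm

namespace Cfsg.Agent.H459.TC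

section Cycles

variable {α : Type*} [DecidableEq α]

/-- the product of the cycles given by lists -/
def pl (L : List (List α)) : Perm α := (L.map List.formPerm).prod

theorem pl_cons (l : List α) (L : List (List α)) : pl (l :: L) = l.formPerm * pl L := by
  rw [pl, List.map_cons, List.prod_cons, pl]

theorem pl_apply_of_notMem : ∀ (L : List (List α)) {x : α}, x ∉ L.flatten → pl L x = x
  | [], x, _ => rfl
  | l :: L, x, h => by
    rw [List.flatten_cons, List.mem_append, not_or] at h
    rw [pl_cons, Perm.mul_apply, pl_apply_of_notMem L h.2, List.formPerm_apply_of_notMem h.1]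

theorem disj {l : List α} {L : List (List α)} (h : (l :: L).flatten.Nodup) :
    Perm.Disjoint l.formPerm (pl L) := by
  rw [List.flatten_cons, List.nodup_append] at h
  intro x
  by_cases hx : x ∈ l
  · exact Or.inr (pl_apply_of_notMem L fun hx' => h.2.2 x hx x hx' rfl)
  · exact Or.inl (List.formPerm_apply_of_notMem hx)

theorem cycleType_pl [Fintype α] : ∀ (L : List (List α)), L.flatten.Nodup → (∀ l ∈ L, 2 ≤ l.length) →
    (pl L).cycleType = ((L.map List.length : List ℕ) : Multiset ℕ)
  | [], _, _ => by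
    rw [show pl ([] : List (List α)) = 1 from rfl, cycleType_one]
    rfl
  | l :: L, h, h2 => by
    have h' := h
    rw [List.flatten_cons, List.nodup_append] at h'
    have hl := h2 l List.mem_cons_self
    rw [pl_cons, (disj h).cycleType_mul, cycleType_pl L h'.2.1 fun m hm => h2 m (List.mem_cons_of_mem _ hm),
      (List.isCycle_formPerm h'.1 hl).cycleType, List.support_formPerm_of_nodup l h'.1,
      List.toFinset_card_of_nodup h'.1, List.map_cons, ← Multiset.cons_coe, Multiset.singleton_add]
    rintro x rfl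
    simp at hl

theorem sign_pl [Fintype α] {L : List (List α)} (h : L.flatten.Nodup) (h2 : ∀ l ∈ L, 2 ≤ l.length) :
    sign (pl L) = (-1) ^ ((L.map List.length).sum + L.length) := by
  rw [sign_of_cycleType, cycleType_pl L h h2, Multiset.sum_coe, Multiset.coe_card, List.length_map]

end Cycles

/-! ### cycle types -/

/-- all decreasing lists of parts in `[2, k]` with sum at most `N` -/
def types : ℕ → ℕ → List (List ℕ)
  | 0, _ => [[]]
  | 1, _ => [[]]
  | (k + 2), N => (List.range (N / (k + 2) + 1)).flatMap fun j =>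
      (types (k + 1) (N - j * (k + 2))).map fun t => List.replicate j (k + 2) ++ t

theorem exists_type : ∀ (k N : ℕ) (s : Multiset ℕ), (∀ a ∈ s, 2 ≤ a ∧ a ≤ k) → s.sum ≤ N →
    ∃ t ∈ types k N, (t : Multiset ℕ) = s
  | 0, N, s, h, _ => by
    refine ⟨[], by simp [types], ?_⟩
    symm
    rw [Multiset.coe_nil, Multiset.eq_zero_iff_forall_notMem]
    intro a ha
    have := h a ha
    omega
  | 1, N, s, h, _ => by
    refine ⟨[], by simp [types], ?_⟩
    symm
    rw [Multiset.coe_nil, Multiset.eq_zero_iff_forall_notMem]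
    intro a ha
    have := h a ha
    omega
  | (k + 2), N, s, h, hs => by
    have e : Multiset.replicate (s.count (k + 2)) (k + 2) + s.filter (fun a => ¬ (k + 2 = a)) = s := by
      rw [← Multiset.filter_eq, Multiset.filter_add_not]
    have hsum : s.count (k + 2) * (k + 2) + (s.filter (fun a => ¬ (k + 2 = a))).sum = s.sum := by
      conv_rhs => rw [← e]
      rw [Multiset.sum_add, Multiset.sum_replicate, smul_eq_mul]
    obtain ⟨t, ht, h1⟩ := exists_type (k + 1) (N - s.count (k + 2) * (k + 2)) (s.filter (fun a => ¬ (k + 2 = a)))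
      (fun a ha => by
        obtain ⟨h2, h3⟩ := Multiset.mem_filter.1 ha
        have := h a h2
        omega) (by omega)
    refine ⟨List.replicate (s.count (k + 2)) (k + 2) ++ t, ?_, ?_⟩
    · rw [types, List.mem_flatMap]
      refine ⟨s.count (k + 2), ?_, List.mem_map.2 ⟨t, ht, rfl⟩⟩
      rw [List.mem_range, Nat.lt_succ_iff, Nat.le_div_iff_mul_le (by omega)]
      omega
    · rw [← Multiset.coe_add, h1]
      exact e

/-- the even types different from the identity -/
def evens (n : ℕ) : List (List ℕ) := (types n n).filter fun t => !t.isEmpty && (t.sum + t.length) % 2 == 0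

/-- the lists are disjoint cycles and the product is even -/
def evn {n : ℕ} (L : List (List (Fin n))) : Bool :=
  decide L.flatten.Nodup && (L.all fun l => Nat.ble 2 l.length) && ((L.map List.length).sum + L.length) % 2 == 0

theorem sign_evn {n : ℕ} {L : List (List (Fin n))} (h : evn L = true) : sign (pl L) = 1 := by
  simp only [evn, Bool.and_eq_true, decide_eq_true_eq, beq_iff_eq, List.all_eq_true, Nat.ble_eq] at h
  obtain ⟨⟨h1, h2⟩, h3⟩ := h
  rw [sign_pl h1 h2]
  exact (Nat.even_iff.2 h3).neg_one_pow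

/-- certificate check -/
def chk (n : ℕ) (a : Perm (Fin n)) (c : List (List (Fin n)) × List (List (Fin n))) : Bool :=
  decide c.1.flatten.Nodup && (c.1.all fun l => Nat.ble 2 l.length) && decide c.2.flatten.Nodup &&
    (c.2.all fun l => Nat.ble 2 l.length) && ((c.2.map List.length).sum + c.2.length) % 2 == 1 &&
    (List.finRange n).all fun x => decide (pl c.1 (pl c.2 x) = a (pl c.2 (a x)))

theorem split_cover {n : ℕ} {a : Perm (Fin n)} {C : List (List (List (Fin n)) × List (List (Fin n)))}
    (h1 : evens n = C.map fun c => c.1.map List.length) (h2 : C.all (chk n a) = true) (g : Perm (Fin n))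
    (hg : sign g = 1) (hg1 : g ≠ 1) :
    ∃ τ σ : Perm (Fin n), sign σ = -1 ∧ g = (τ * a * τ⁻¹) * ((τ * σ) * a * (τ * σ)⁻¹) := by
  have hle : ∀ m ∈ g.cycleType, 2 ≤ m ∧ m ≤ n := fun m hm =>
    ⟨two_le_of_mem_cycleType hm, (le_card_support_of_mem_cycleType hm).trans (by
      simpa using Finset.card_le_univ g.support)⟩
  obtain ⟨t, ht, hts⟩ := exists_type n n g.cycleType hle (by
    rw [sum_cycleType]
    simpa using Finset.card_le_univ g.support)
  have hev : t ∈ evens n := by
    rw [evens, List.mem_filter]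
    refine ⟨ht, ?_⟩
    rw [Bool.and_eq_true, Bool.not_eq_true', List.isEmpty_eq_false_iff, beq_iff_eq]
    refine ⟨?_, ?_⟩
    · rintro rfl
      rw [Multiset.coe_nil] at hts
      exact hg1 (cycleType_eq_zero.1 hts.symm)
    · rw [sign_of_cycleType, ← hts, Multiset.sum_coe, Multiset.coe_card] at hg
      by_contra hne
      have : Odd (t.sum + t.length) := Nat.odd_iff.2 (by omega)
      rw [this.neg_one_pow] at hg
      exact absurd hg (by decide)
  rw [h1, List.mem_map] at hev
  obtain ⟨c, hc, rfl⟩ := hev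
  have hchk := List.all_eq_true.1 h2 c hc
  simp only [chk, Bool.and_eq_true, decide_eq_true_eq, beq_iff_eq, List.all_eq_true, Nat.ble_eq] at hchk
  obtain ⟨⟨⟨⟨⟨c1, c2⟩, c3⟩, c4⟩, c5⟩, c6⟩ := hchk
  have hct : (pl c.1).cycleType = g.cycleType := by rw [cycleType_pl _ c1 c2, hts]
  obtain ⟨τ, hτ⟩ := isConj_iff.1 (isConj_iff_cycleType_eq.2 hct)
  have hs : sign (pl c.2) = -1 := by
    rw [sign_pl c3 c4]
    exact (Nat.odd_iff.2 c5).neg_one_pow
  have he : pl c.1 * pl c.2 = a * pl c.2 * a := Equiv.ext fun x => c6 x (List.mem_finRange x)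
  have he' : pl c.1 = a * pl c.2 * a * (pl c.2)⁻¹ := by rw [← he, mul_inv_cancel_right]
  refine ⟨τ, pl c.2, hs, ?_⟩
  rw [← hτ, he']
  group

/-- two classes of the alternating group, interchanged by an odd permutation -/
theorem tc_of_split {n : ℕ} {a ρ : Perm (Fin n)} (ha : sign a = 1) (hρ : sign ρ = -1)
    (hc : ∀ g : Perm (Fin n), sign g = 1 → g ≠ 1 →
      ∃ τ σ : Perm (Fin n), sign σ = -1 ∧ g = (τ * a * τ⁻¹) * ((τ * σ) * a * (τ * σ)⁻¹))
    (x y : alternatingGroup (Fin n)) (hx : (x : Perm (Fin n)) = a) (hy : (y : Perm (Fin n)) = ρ * a * ρ⁻¹)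
    (g : alternatingGroup (Fin n)) (hg : g ≠ 1) :
    ∃ u v : alternatingGroup (Fin n), g = (u * x * u⁻¹) * (v * y * v⁻¹) := by
  obtain ⟨τ, σ, hσ, h⟩ := hc g (mem_alternatingGroup.1 g.2) fun h => hg (Subtype.ext h)
  have hii : (-1 : ℤˣ)⁻¹ = -1 := by decide
  rcases Int.units_eq_one_or (sign τ) with h1 | h1
  · refine ⟨⟨τ, mem_alternatingGroup.2 h1⟩, ⟨τ * σ * ρ⁻¹, mem_alternatingGroup.2 ?_⟩, ?_⟩
    · rw [map_mul, map_mul, map_inv, h1, hσ, hρ]
      decide
    · apply Subtype.ext
      simp only [Subgroup.coe_mul, Subgroup.coe_inv, hx, hy]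
      rw [h]
      group
  · refine ⟨⟨τ * σ, mem_alternatingGroup.2 ?_⟩, ⟨((τ * σ) * a * (τ * σ)⁻¹)⁻¹ * τ * ρ⁻¹, mem_alternatingGroup.2 ?_⟩, ?_⟩
    · rw [map_mul, h1, hσ]
      decide
    · rw [map_mul, map_mul, map_inv, map_inv, map_mul, map_mul, map_inv, ha, h1, hρ, mul_one, mul_inv_cancel]
      decide
    · apply Subtype.ext
      simp only [Subgroup.coe_mul, Subgroup.coe_inv, hx, hy]
      rw [h]
      group

end Cfsg.Agent.H459.TC
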