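import Cfsg.Agent.H459.Ore.Frame
import Cfsg.Agent.H937.TC.Wraps
import Cfsg.Agent.H374.TC.Rows
import Cfsg.Agent.H194.TC.Rows
import Cfsg.Agent.H122.TC.Rows
import Cfsg.Agent.H928.TC.Row

/-!
# Exceptional rows of S4173 (helper459)
-/

set_option autoImplicit false

namespace Cfsg.Agent.H459.TC

open Cfsg.Agent.H140.TC

universe u

theorem tc_iso2E6 {G : Type u} [Group G] (h : Cfsg.Lie.Iso2E6 G) : TC G := by
  obtain ⟨F, _, _, q, hq, hF, ⟨e⟩⟩ := h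
  exact TC.of_equiv e (Cfsg.Agent.H928.TC.Row.tc_2E6 hq hF)

/-- the exceptional rows of S4173 -/
theorem tc_exc : Cfsg.Agent.H459.Ore.ExcRows.{u} (fun G _ => TC G) where
  g2 := fun h => Cfsg.Agent.H937.TC.tc_g2 h
  f4 := fun h => Cfsg.Agent.H374.TC.tc_f4 h
  e6 := fun h => Cfsg.Agent.H194.TC.tc_e6 h
  e7 := fun h => Cfsg.Agent.H122.TwoC.tc_e7 h
  e8 := fun h => Cfsg.Agent.H122.TwoC.tc_e8 h
  te6 := tc_iso2E6
  td4 := fun h => Cfsg.Agent.H937.TC.tc_d4 h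
  sz := fun h => Cfsg.Agent.H937.TC.tc_sz h
  ree := fun h => Cfsg.Agent.H937.TC.tc_ree h
  tf4 := fun h => Cfsg.Agent.H937.TC.tc_2f4 h
  tits := fun h => Cfsg.Agent.H937.TC.tc_tits h

end Cfsg.Agent.H459.TC
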