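import Cfsg.Agent.H459.TC.Cyc

/-!
# Certificates for the small alternating groups, degree 5, 6 (5-cycles), 8 (7-cycles), 11, 12 (11-cycles) (helper459)
-/

set_option autoImplicit false
set_option maxRecDepth 100000

namespace Cfsg.Agent.H459.TC

open Equiv

/-- degree 5, the cycle of length 5 -/
def a5 : Perm (Fin 5) := pl [[0, 1, 2, 3, 4]]

def r5 : Perm (Fin 5) := pl [[0, 1]]

/-- cycles of `g`, cycles of `σ`, `g = a * (σ a σ⁻¹)` -/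
def C5 : List (List (List (Fin 5)) × List (List (Fin 5))) :=
  [([[0, 2], [1, 4]], [[0, 4, 2, 1]]),
    ([[0, 4, 1]], [[0, 3, 4], [1, 2]]),
    ([[0, 4, 3, 2, 1]], [[0, 2, 3, 1]])]

theorem h1_5 : evens 5 = C5.map fun c => c.1.map List.length := by decide +kernel

theorem h2_5 : C5.all (chk 5 a5) = true := by decide +kernel

def u_5 : List (List (Fin 5)) := [[0, 1, 3, 4, 2]]

def v_5 : List (List (Fin 5)) := [[1, 4, 3]]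

def v1_5 : List (List (Fin 5)) := [[0, 4, 3]]

def w1_5 : List (List (Fin 5)) := [[1, 3, 2]]

/-- the class of `ρ a ρ⁻¹` is in the square of the class of `a` -/
theorem h3_5 : evn u_5 && evn v_5 && (List.finRange 5).all (fun x => decide
    ((pl u_5 * a5 * (pl u_5)⁻¹ * (pl v_5 * a5 * (pl v_5)⁻¹)) x = (r5 * a5 * r5⁻¹) x)) = true := by
  decide +kernel

/-- `1` is in the cube of the class of `a` -/
theorem h4_5 : evn v1_5 && evn w1_5 && (List.finRange 5).all (fun x => decide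
    ((a5 * (pl v1_5 * a5 * (pl v1_5)⁻¹) * (pl w1_5 * a5 * (pl w1_5)⁻¹)) x = x)) = true := by
  decide +kernel

/-- degree 6, the cycle of length 5 -/
def a6 : Perm (Fin 6) := pl [[0, 1, 2, 3, 4]]

def r6 : Perm (Fin 6) := pl [[0, 1]]

/-- cycles of `g`, cycles of `σ`, `g = a * (σ a σ⁻¹)` -/
def C6 : List (List (List (Fin 6)) × List (List (Fin 6))) :=
  [([[0, 3], [1, 4]], [[0, 2, 3, 4]]),
    ([[2, 4, 3]], [[1, 4]]),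
    ([[0, 2, 3], [1, 4, 5]], [[0, 1, 3, 5, 2, 4]]),
    ([[0, 5, 4, 1], [2, 3]], [[0, 4, 1], [2, 5]]),
    ([[0, 3, 1, 5, 4]], [[0, 5, 4, 1, 3, 2]])]

theorem h1_6 : evens 6 = C6.map fun c => c.1.map List.length := by decide +kernel

theorem h2_6 : C6.all (chk 6 a6) = true := by decide +kernel

def u_6 : List (List (Fin 6)) := [[1, 4, 5]]

def v_6 : List (List (Fin 6)) := [[0, 4], [2, 5]]

def v1_6 : List (List (Fin 6)) := [[1, 3, 5, 2, 4]]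

def w1_6 : List (List (Fin 6)) := [[1, 3, 5]]

/-- the class of `ρ a ρ⁻¹` is in the square of the class of `a` -/
theorem h3_6 : evn u_6 && evn v_6 && (List.finRange 6).all (fun x => decide
    ((pl u_6 * a6 * (pl u_6)⁻¹ * (pl v_6 * a6 * (pl v_6)⁻¹)) x = (r6 * a6 * r6⁻¹) x)) = true := by
  decide +kernel

/-- `1` is in the cube of the class of `a` -/
theorem h4_6 : evn v1_6 && evn w1_6 && (List.finRange 6).all (fun x => decide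
    ((a6 * (pl v1_6 * a6 * (pl v1_6)⁻¹) * (pl w1_6 * a6 * (pl w1_6)⁻¹)) x = x)) = true := by
  decide +kernel

/-- degree 8, the cycle of length 7 -/
def a8 : Perm (Fin 8) := pl [[0, 1, 2, 3, 4, 5, 6]]

def r8 : Perm (Fin 8) := pl [[0, 1]]

/-- cycles of `g`, cycles of `σ`, `g = a * (σ a σ⁻¹)` -/
def C8 : List (List (List (Fin 8)) × List (List (Fin 8))) :=
  [([[0, 1], [6, 7]], [[0, 3, 6, 4, 7], [1, 2]]),
    ([[0, 2], [1, 5], [3, 4], [6, 7]], [[0, 6, 2, 5, 4, 1, 7, 3]]),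
    ([[1, 6, 5]], [[0, 4, 5], [1, 3]]),
    ([[2, 3, 7], [0, 5], [4, 6]], [[1, 7, 2], [0, 3]]),
    ([[0, 7, 6], [1, 3, 2]], [[1, 3, 2], [5, 7, 6], [0, 4]]),
    ([[0, 1, 5, 2], [4, 7]], [[0, 1, 4, 2, 7], [5, 6]]),
    ([[0, 6, 1, 7], [2, 3, 5, 4]], [[0, 6, 7, 2, 5, 1]]),
    ([[0, 7, 3, 1, 2]], [[0, 4, 2], [1, 3, 7], [5, 6]]),
    ([[1, 6, 5, 3, 4], [0, 2, 7]], [[2, 5, 6, 4, 7, 3]]),
    ([[0, 1, 6, 3, 2, 5], [4, 7]], [[0, 3, 6, 7], [2, 5, 4]]),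
    ([[0, 4, 3, 6, 1, 2, 7]], [[1, 4, 6, 3, 7], [0, 5]])]

theorem h1_8 : evens 8 = C8.map fun c => c.1.map List.length := by decide +kernel

theorem h2_8 : C8.all (chk 8 a8) = true := by decide +kernel

def u_8 : List (List (Fin 8)) := [[0, 1, 7, 2, 5, 3, 6]]

def v_8 : List (List (Fin 8)) := [[0, 2, 7, 5, 6], [1, 4, 3]]

def v1_8 : List (List (Fin 8)) := [[0, 6, 4, 1, 7]]

def w1_8 : List (List (Fin 8)) := [[1, 4, 7, 5, 6]]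

/-- the class of `ρ a ρ⁻¹` is in the square of the class of `a` -/
theorem h3_8 : evn u_8 && evn v_8 && (List.finRange 8).all (fun x => decide
    ((pl u_8 * a8 * (pl u_8)⁻¹ * (pl v_8 * a8 * (pl v_8)⁻¹)) x = (r8 * a8 * r8⁻¹) x)) = true := by
  decide +kernel

/-- `1` is in the cube of the class of `a` -/
theorem h4_8 : evn v1_8 && evn w1_8 && (List.finRange 8).all (fun x => decide
    ((a8 * (pl v1_8 * a8 * (pl v1_8)⁻¹) * (pl w1_8 * a8 * (pl w1_8)⁻¹)) x = x)) = true := by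
  decide +kernel

/-- degree 11, the cycle of length 11 -/
def a11 : Perm (Fin 11) := pl [[0, 1, 2, 3, 4, 5, 6, 7, 8, 9, 10]]

def r11 : Perm (Fin 11) := pl [[0, 1]]

/-- cycles of `g`, cycles of `σ`, `g = a * (σ a σ⁻¹)` -/
def C11 : List (List (List (Fin 11)) × List (List (Fin 11))) :=
  [([[1, 5], [3, 6]], [[0, 2, 4, 5], [6, 10], [7, 9]]),
    ([[0, 4], [1, 9], [6, 8], [7, 10]], [[0, 9, 6, 5, 8, 10, 7, 4, 1], [2, 3]]),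
    ([[2, 5, 3]], [[2, 7, 3, 6, 4, 5], [0, 9], [1, 8]]),
    ([[1, 4, 8], [3, 10], [6, 9]], [[2, 8, 9, 5], [0, 7, 3], [1, 6], [4, 10]]),
    ([[0, 4, 3], [1, 5], [2, 7], [6, 9], [8, 10]], [[0, 4, 9, 7, 3, 8, 10, 1, 2, 6]]),
    ([[0, 9, 4], [2, 7, 3]], [[0, 4, 1, 10, 5], [2, 9, 6, 8]]),
    ([[0, 9, 5], [3, 8, 7], [1, 10], [4, 6]], [[0, 4, 8, 2, 10, 9, 1, 5, 6, 3]]),
    ([[0, 4, 8], [1, 7, 2], [3, 6, 10]], [[0, 2, 3, 5, 7, 6, 1], [8, 9]]),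
    ([[1, 4, 9, 8], [2, 10]], [[0, 6, 1, 5, 10, 7, 3, 8, 2, 4]]),
    ([[1, 9, 7, 2], [0, 5], [3, 8], [4, 10]], [[1, 4, 5, 10, 2, 9, 8], [3, 6]]),
    ([[1, 4, 10, 3], [5, 8, 6], [2, 7]], [[1, 8, 2, 5, 3, 7, 10, 4], [0, 9, 6]]),
    ([[0, 10, 1, 5], [2, 8, 4, 7]], [[1, 3, 7, 5, 4], [0, 8, 10, 9]]),
    ([[1, 10, 4, 8], [2, 6, 9, 7], [0, 3, 5]], [[1, 5, 7, 9, 8, 6], [0, 2, 10]]),
    ([[1, 4, 9, 6, 2]], [[0, 8, 9, 5, 2, 6], [1, 7, 10, 4, 3]]),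
    ([[1, 10, 6, 8, 3], [0, 9], [4, 7]], [[1, 8, 6, 5, 10, 3], [4, 9, 7]]),
    ([[0, 9, 6, 10, 5], [3, 8, 7]], [[0, 4, 1, 3, 2, 7, 6, 8, 9, 5]]),
    ([[0, 6, 2, 5, 7], [1, 9, 3], [4, 8, 10]], [[2, 9, 5, 7, 3], [0, 1, 8], [6, 10]]),
    ([[2, 4, 10, 3, 7], [1, 9, 6, 8], [0, 5]], [[1, 4, 10, 8, 7, 6, 3, 5, 2, 9]]),
    ([[0, 7, 1, 3, 8], [2, 10, 5, 9, 6]], [[3, 9, 7, 4, 5, 8], [0, 6, 10]]),
    ([[3, 6, 5, 7, 10, 8], [2, 4]], [[3, 9, 4, 8, 6], [2, 7, 5], [1, 10]]),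
    ([[0, 5, 2, 4, 8, 6], [1, 10, 3], [7, 9]], [[0, 6, 7, 8, 5, 4], [1, 10, 9]]),
    ([[0, 8, 1, 4, 9, 7], [2, 5, 10, 6]], [[0, 5, 2, 6, 4, 3, 1, 9, 7, 8]]),
    ([[1, 6, 5, 10, 3, 9, 7]], [[0, 7, 6, 9, 3, 2, 10, 8, 4, 1]]),
    ([[1, 6, 9, 8, 5, 4, 10], [0, 2], [3, 7]], [[1, 4, 2, 9, 3, 7], [0, 8, 5, 10, 6]]),
    ([[2, 6, 3, 10, 4, 8, 5], [0, 7, 1]], [[0, 1, 10, 5, 4, 8, 6, 7], [2, 3, 9]]),
    ([[0, 7, 9, 4, 6, 5, 10, 1], [2, 8]], [[2, 6, 3, 4, 5, 9, 8, 7], [0, 10, 1]]),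
    ([[0, 3, 10, 5, 8, 1, 9, 2, 7]], [[0, 8, 3, 6, 10, 1], [4, 5, 7]]),
    ([[0, 9, 1, 10, 3, 7, 5, 8, 4, 2, 6]], [[0, 2, 7, 8, 3, 4, 1, 5, 9, 6]])]

theorem h1_11 : evens 11 = C11.map fun c => c.1.map List.length := by decide +kernel

theorem h2_11 : C11.all (chk 11 a11) = true := by decide +kernel

def u_11 : List (List (Fin 11)) := [[0, 2, 7, 3, 1, 10, 8, 5, 6]]

def v_11 : List (List (Fin 11)) := [[0, 5, 10, 8, 2, 3, 1, 4, 6, 7, 9]]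

def v1_11 : List (List (Fin 11)) := [[0, 10, 4, 2, 6, 3, 7], [1, 5, 8]]

def w1_11 : List (List (Fin 11)) := [[1, 4, 10, 2, 8, 5], [3, 6]]

/-- the class of `ρ a ρ⁻¹` is in the square of the class of `a` -/
theorem h3_11 : evn u_11 && evn v_11 && (List.finRange 11).all (fun x => decide
    ((pl u_11 * a11 * (pl u_11)⁻¹ * (pl v_11 * a11 * (pl v_11)⁻¹)) x = (r11 * a11 * r11⁻¹) x)) = true := by
  decide +kernel

/-- `1` is in the cube of the class of `a` -/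
theorem h4_11 : evn v1_11 && evn w1_11 && (List.finRange 11).all (fun x => decide
    ((a11 * (pl v1_11 * a11 * (pl v1_11)⁻¹) * (pl w1_11 * a11 * (pl w1_11)⁻¹)) x = x)) = true := by
  decide +kernel

/-- degree 12, the cycle of length 11 -/
def a12 : Perm (Fin 12) := pl [[0, 1, 2, 3, 4, 5, 6, 7, 8, 9, 10]]

def r12 : Perm (Fin 12) := pl [[0, 1]]

/-- cycles of `g`, cycles of `σ`, `g = a * (σ a σ⁻¹)` -/
def C12 : List (List (List (Fin 12)) × List (List (Fin 12))) :=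
  [([[4, 8], [6, 10]], [[0, 8, 7, 4], [5, 10, 9, 6], [1, 3]]),
    ([[0, 3], [1, 9], [2, 11], [6, 7]], [[0, 1, 8], [2, 7, 9], [6, 10, 11], [3, 5]]),
    ([[0, 4], [1, 5], [2, 3], [6, 9], [7, 10], [8, 11]], [[0, 1, 4, 8, 5, 11, 2, 10, 3, 6, 7, 9]]),
    ([[1, 9, 3]], [[0, 8, 9, 2, 6], [1, 7, 10], [3, 5]]),
    ([[3, 7, 9], [0, 8], [1, 6]], [[0, 2, 5, 6], [3, 4], [9, 10]]),
    ([[3, 10, 5], [0, 9], [1, 2], [4, 8], [7, 11]], [[0, 10, 9, 3, 11, 1, 4, 6, 2, 7]]),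
    ([[0, 11, 4], [2, 3, 5]], [[0, 5, 4, 3, 11, 2], [6, 10], [7, 9]]),
    ([[0, 7, 6], [4, 8, 9], [2, 5], [10, 11]], [[2, 6, 3, 10, 5, 9, 7], [4, 11, 8], [0, 1]]),
    ([[0, 8, 9], [1, 5, 11], [4, 10, 6]], [[0, 11, 8, 9, 10, 5, 2, 7, 4, 3, 6, 1]]),
    ([[0, 3, 7], [1, 2, 8], [4, 9, 5], [6, 10, 11]], [[1, 2, 7, 6, 3, 10, 8, 9, 4, 11]]),
    ([[1, 3, 5, 4], [2, 10]], [[1, 10, 4, 9, 3, 2], [5, 8], [6, 7]]),
    ([[1, 8, 2, 5], [3, 6], [4, 11], [9, 10]], [[1, 10, 5, 6, 2, 8, 11, 9, 3], [4, 7]]),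
    ([[1, 11, 9, 4], [2, 8, 5], [6, 7]], [[1, 3, 7, 8, 4, 5], [0, 9], [6, 11]]),
    ([[1, 7, 11, 9], [0, 3, 8], [2, 4, 10], [5, 6]], [[4, 11, 5, 8, 6, 10, 9], [1, 2, 3, 7]]),
    ([[0, 5, 8, 6], [2, 4, 3, 10]], [[1, 4, 9, 10], [5, 8, 6]]),
    ([[0, 9, 10, 2], [1, 8, 3, 5], [4, 6], [7, 11]], [[1, 8, 3, 10, 5, 7, 6, 11, 9, 4]]),
    ([[0, 3, 8, 1], [2, 4, 11, 9], [5, 6, 10]], [[0, 8, 10, 11, 5, 6, 9, 4, 7, 1]]),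
    ([[1, 6, 3, 8, 4]], [[0, 3, 2, 6, 4, 1, 7], [8, 10]]),
    ([[1, 3, 7, 4, 9], [2, 8], [6, 10]], [[2, 6, 5, 10], [0, 7, 4], [1, 3, 9]]),
    ([[3, 9, 6, 7, 4], [1, 8, 11]], [[0, 4, 3, 7], [5, 8, 10], [1, 2], [6, 11]]),
    ([[2, 3, 8, 10, 7], [4, 11, 6], [0, 5], [1, 9]], [[0, 5, 1, 10, 11, 2, 6, 8], [4, 7, 9]]),
    ([[1, 11, 9, 2, 10], [0, 5, 8], [3, 6, 7]], [[0, 1, 11, 6, 3, 10, 9, 2, 8, 7, 5, 4]]),
    ([[0, 3, 2, 6, 10], [1, 7, 5, 9], [4, 11]], [[1, 7, 9, 2, 4, 3, 11, 10, 5], [0, 8]]),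
    ([[0, 2, 3, 7, 6], [1, 11, 5, 4, 10]], [[3, 4, 9, 6, 7, 5, 8], [2, 11]]),
    ([[1, 3, 6, 10, 7, 5], [0, 2]], [[0, 7, 10, 8, 6, 2, 3, 5, 1, 4]]),
    ([[2, 8, 9, 11, 5, 7], [0, 4], [1, 10], [3, 6]], [[0, 11, 8, 7, 2, 10, 9, 1, 4, 3]]),
    ([[0, 4, 11, 3, 10, 2], [1, 9, 5], [6, 7]], [[0, 3, 11, 6, 1, 9, 5, 10], [2, 4], [7, 8]]),
    ([[0, 11, 3, 1, 8, 2], [5, 6, 9, 7]], [[0, 1, 7, 10, 8, 9, 6, 2, 4], [5, 11]]),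
    ([[0, 7, 9, 8, 2, 3], [1, 4, 6, 11, 5, 10]], [[2, 9, 6, 3, 7, 10, 11], [0, 4, 8], [1, 5]]),
    ([[2, 8, 7, 5, 3, 10, 9]], [[0, 5, 9, 8, 10, 6, 1, 2, 7], [3, 4]]),
    ([[2, 5, 6, 9, 3, 10, 8], [0, 11], [4, 7]], [[0, 2, 6, 11, 5], [3, 8, 7, 10, 9], [1, 4]]),
    ([[1, 7, 2, 5, 3, 11, 6], [4, 9, 10]], [[0, 3, 2, 5, 8, 6, 7, 1, 11, 9]]),
    ([[1, 5, 4, 11, 10, 2, 8], [0, 6, 7, 9, 3]], [[1, 2, 7, 10, 11, 6, 3, 8], [0, 9, 4]]),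
    ([[1, 3, 6, 9, 2, 4, 10, 5], [0, 8]], [[0, 2, 5, 6, 8, 4, 7, 10, 1, 3]]),
    ([[1, 8, 2, 7, 5, 10, 6, 9], [0, 3, 4, 11]], [[0, 6, 10, 2, 1, 8, 9], [3, 7, 5, 11]]),
    ([[0, 11, 9, 2, 5, 8, 6, 7, 3]], [[1, 2, 4, 10, 5, 9, 8, 11, 6], [0, 7]]),
    ([[1, 8, 4, 11, 10, 7, 6, 5, 9], [0, 2, 3]], [[0, 4, 1, 11, 2, 9, 10, 6, 5, 7, 8, 3]]),
    ([[0, 4, 9, 3, 11, 10, 1, 5, 6, 8], [2, 7]], [[1, 7, 3, 4, 8, 11, 5, 10, 2], [0, 6]]),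
    ([[0, 7, 11, 4, 10, 9, 2, 8, 5, 6, 3]], [[0, 7, 1, 11, 5, 4, 8], [2, 3, 10], [6, 9]])]

theorem h1_12 : evens 12 = C12.map fun c => c.1.map List.length := by decide +kernel

theorem h2_12 : C12.all (chk 12 a12) = true := by decide +kernel

def u_12 : List (List (Fin 12)) := [[3, 8, 6, 9], [5, 7, 10, 11], [0, 2, 4]]

def v_12 : List (List (Fin 12)) := [[3, 4, 5, 10], [0, 1, 8], [2, 7, 6], [9, 11]]

def v1_12 : List (List (Fin 12)) := [[2, 3, 11, 8], [0, 9], [4, 10], [6, 7]]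

def w1_12 : List (List (Fin 12)) := [[1, 11, 7, 2, 3, 6], [4, 10, 5], [8, 9]]

/-- the class of `ρ a ρ⁻¹` is in the square of the class of `a` -/
theorem h3_12 : evn u_12 && evn v_12 && (List.finRange 12).all (fun x => decide
    ((pl u_12 * a12 * (pl u_12)⁻¹ * (pl v_12 * a12 * (pl v_12)⁻¹)) x = (r12 * a12 * r12⁻¹) x)) = true := by
  decide +kernel

/-- `1` is in the cube of the class of `a` -/
theorem h4_12 : evn v1_12 && evn w1_12 && (List.finRange 12).all (fun x => decide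
    ((a12 * (pl v1_12 * a12 * (pl v1_12)⁻¹) * (pl w1_12 * a12 * (pl w1_12)⁻¹)) x = x)) = true := by
  decide +kernel

end Cfsg.Agent.H459.TC
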